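import Groth.Agent.LFFrame.Basic
import Groth.Prelude.Def_KoszTw

/-!
# Tensoring with a module with a one-element frame
-/

set_option autoImplicit false
set_option backward.isDefEq.respectTransparency false
set_option backward.isDefEq.respectTransparency.types false
set_option linter.style.haveILetI false

universe u

open CategoryTheory CategoryTheory.Limits AlgebraicGeometry TopologicalSpace Opposite TensorProduct
open Groth.Agent.LFFrame

noncomputable section

namespace Groth.Agent.KoszTwLib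

variable {X : Scheme.{u}}

/-- Pure tensors as an additive map from the sectionwise tensor product. -/
def toT (M N : X.Modules) (U : X.Opens) :
    ↥((CohB1.tensorPre M N).obj (op U)) →+ Γ(CohB1.tensorMod M N, U) :=
  (((PresheafOfModules.toPresheaf _).map (SecTwist.toTensor M N)).app (op U)).hom

theorem toT_tmul (M N : X.Modules) (U : X.Opens) (m : Γ(M, U)) (n : Γ(N, U)) :
    toT M N U (m ⊗ₜ n) = SecTwist.tmul M N U m n := rfl

theorem toT_locally_injective (M N : X.Modules) (U : X.Opens) (z : ↥((CohB1.tensorPre M N).obj (op U)))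
    (hz : toT M N U z = 0) (x : X) (hx : x ∈ U) :
    ∃ (W : X.Opens) (hW : W ≤ U), x ∈ W ∧ (CohB1.tensorPre M N).map (homOfLE hW).op z = 0 := by
  have h := Presheaf.equalizerSieve_mem (Opens.grothendieckTopology X)
    (toSheafify (Opens.grothendieckTopology X) (CohB1.tensorPre M N).presheaf) z 0 (by
      rw [map_zero]
      exact hz)
  obtain ⟨W, f, hf, hxW⟩ := h x hx
  exact ⟨W, leOfHom f, hxW, hf.trans (map_zero _)⟩

theorem toT_locally_surjective (M N : X.Modules) (U : X.Opens) (s : Γ(CohB1.tensorMod M N, U))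
    (x : X) (hx : x ∈ U) :
    ∃ (W : X.Opens) (hW : W ≤ U) (z : ↥((CohB1.tensorPre M N).obj (op W))), x ∈ W ∧
      toT M N W z = (CohB1.tensorMod M N).presheaf.map (homOfLE hW).op s := by
  have h := Presheaf.imageSieve_mem (Opens.grothendieckTopology X)
    (toSheafify (Opens.grothendieckTopology X) (CohB1.tensorPre M N).presheaf) s
  obtain ⟨W, f, ⟨z, hz⟩, hxW⟩ := h x hx
  exact ⟨W, leOfHom f, z, hxW, hz⟩

theorem tmul_res (M N : X.Modules) {U V : X.Opens} (h : V ≤ U) (m : Γ(M, U)) (n : Γ(N, U)) :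
    (CohB1.tensorMod M N).presheaf.map (homOfLE h).op (SecTwist.tmul M N U m n) =
      SecTwist.tmul M N V (M.presheaf.map (homOfLE h).op m) (N.presheaf.map (homOfLE h).op n) :=
  SecTwist.map_tmul M N (homOfLE h) m n

theorem eq_zero_of_locally (M : X.Modules) (U : X.Opens) (s : Γ(M, U))
    (h : ∀ x ∈ U, ∃ (W : X.Opens) (hW : W ≤ U), x ∈ W ∧ M.presheaf.map (homOfLE hW).op s = 0) :
    s = 0 := by
  choose W hW hxW hs using h
  refine TopCat.Sheaf.eq_of_locally_eq' ⟨M.presheaf, M.isSheaf⟩ (fun x : U => W x.1 x.2) U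
    (fun x => homOfLE (hW x.1 x.2)) (fun x hx => Opens.mem_iSup.2 ⟨⟨x, hx⟩, hxW x hx⟩) s 0 fun x => ?_
  exact (hs x.1 x.2).trans (map_zero _).symm

variable {M N : X.Modules} {U : X.Opens} {l : Γ(N, U)}

/-- The restriction of the frame. -/
abbrev res (l : Γ(N, U)) {V : X.Opens} (h : V ≤ U) : Γ(N, V) := N.presheaf.map (homOfLE h).op l

theorem smul_frame_bijective (hl : IsFrame N U ![l]) {V : X.Opens} (h : V ≤ U) :
    Function.Bijective (fun r : Γ(X, V) => r • res l h) := by
  have e : (fun r : Γ(X, V) => r • res l h) = comb N ![l] h ∘ (fun r _ => r) := by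
    funext r
    simp [comb, res]
  rw [e]
  exact (hl V h).comp (Equiv.funUnique (Fin 1) Γ(X, V)).symm.bijective

/-- The sectionwise tensor product, read over `Γ(X, V)`. -/
abbrev TV (M N : X.Modules) (V : X.Opens) : Type u := Γ(M, V) ⊗[Γ(X, V)] Γ(N, V)

/-- The identity map into the presheaf tensor product. -/
def ofTV (M N : X.Modules) (V : X.Opens) (z : TV M N V) : ↥((CohB1.tensorPre M N).obj (op V)) := z

theorem exists_pre_eq (hl : IsFrame N U ![l]) {V : X.Opens} (h : V ≤ U)
    (z : TV M N V) : ∃ m : Γ(M, V), z = m ⊗ₜ[Γ(X, V)] res l h := by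
  induction z using TensorProduct.induction_on with
  | zero => exact ⟨0, (TensorProduct.zero_tmul _ _).symm⟩
  | tmul m n =>
    obtain ⟨r, rfl⟩ := (smul_frame_bijective hl h).2 n
    exact ⟨r • m, (TensorProduct.smul_tmul r m (res l h)).symm⟩
  | add a b ha hb =>
    obtain ⟨m, rfl⟩ := ha
    obtain ⟨m', rfl⟩ := hb
    exact ⟨m + m', (TensorProduct.add_tmul _ _ _).symm⟩

theorem pre_tmul_injective (hl : IsFrame N U ![l]) {V : X.Opens} (h : V ≤ U) (m : Γ(M, V))
    (hm : (m ⊗ₜ[Γ(X, V)] res l h : TV M N V) = 0) : m = 0 := by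
  let e : Γ(X, V) ≃ₗ[Γ(X, V)] Γ(N, V) :=
    LinearEquiv.ofBijective (LinearMap.toSpanSingleton Γ(X, V) _ (res l h)) (smul_frame_bijective hl h)
  let ψ : Γ(M, V) ⊗[Γ(X, V)] Γ(N, V) →ₗ[Γ(X, V)] Γ(M, V) :=
    (TensorProduct.rid Γ(X, V) Γ(M, V)).toLinearMap.comp (TensorProduct.map LinearMap.id e.symm.toLinearMap)
  have he : e.symm (res l h) = 1 := by
    rw [LinearEquiv.symm_apply_eq]
    exact (one_smul _ _).symm
  have := congrArg ψ hm
  simpa [ψ, he] using this

/-- Tensoring with a frame is bijective on sections. -/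
theorem tmul_bijective (hl : IsFrame N U ![l]) (M : X.Modules) {V : X.Opens} (h : V ≤ U) :
    Function.Bijective (fun m : Γ(M, V) => (SecTwist.tmul M N V m (res l h) : Γ(CohB1.tensorMod M N, V))) := by
  have hinj : ∀ {V : X.Opens} (h : V ≤ U) (m : Γ(M, V)),
      SecTwist.tmul M N V m (res l h) = (0 : Γ(CohB1.tensorMod M N, V)) → m = 0 := by
    intro V h m hm
    refine eq_zero_of_locally M V m fun x hx => ?_
    obtain ⟨W, hW, hxW, hz⟩ := toT_locally_injective M N V (m ⊗ₜ res l h) hm x hx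
    refine ⟨W, hW, hxW, pre_tmul_injective hl (hW.trans h) _ ?_⟩
    show (_ ⊗ₜ[Γ(X, W)] N.presheaf.map (homOfLE (hW.trans h)).op l : TV M N W) = 0
    rw [← res_res N h hW]
    exact hz
  have hinj' : ∀ {V : X.Opens} (h : V ≤ U) (m m' : Γ(M, V)),
      SecTwist.tmul M N V m (res l h) = (SecTwist.tmul M N V m' (res l h) : Γ(CohB1.tensorMod M N, V)) →
        m = m' := by
    intro V h m m' e
    refine sub_eq_zero.1 (hinj h _ ?_)
    rw [← toT_tmul]
    erw [TensorProduct.sub_tmul]
    rw [map_sub, toT_tmul, toT_tmul]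
    exact sub_eq_zero.2 e
  refine ⟨fun m m' e => hinj' h m m' e, fun s => ?_⟩
  have hloc : ∀ x : V, ∃ (W : X.Opens) (hW : W ≤ V) (m : Γ(M, W)), x.1 ∈ W ∧
      SecTwist.tmul M N W m (res l (hW.trans h)) = (CohB1.tensorMod M N).presheaf.map (homOfLE hW).op s := by
    intro x
    obtain ⟨W, hW, z, hxW, hz⟩ := toT_locally_surjective M N V s x.1 x.2
    obtain ⟨m, rfl⟩ := exists_pre_eq hl (hW.trans h) z
    exact ⟨W, hW, m, hxW, hz⟩
  choose W hW m hxW hm using hloc
  have hcompat : ∀ i j : V, M.presheaf.map (homOfLE (inf_le_left : W i ⊓ W j ≤ W i)).op (m i) =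
      M.presheaf.map (homOfLE (inf_le_right : W i ⊓ W j ≤ W j)).op (m j) := by
    intro i j
    refine hinj' ((inf_le_left.trans (hW i)).trans h) _ _ ?_
    have hi := congrArg ((CohB1.tensorMod M N).presheaf.map (homOfLE (inf_le_left : W i ⊓ W j ≤ W i)).op) (hm i)
    have hj := congrArg ((CohB1.tensorMod M N).presheaf.map (homOfLE (inf_le_right : W i ⊓ W j ≤ W j)).op) (hm j)
    simp only [tmul_res, res, res_res] at hi hj
    exact hi.trans hj.symm
  obtain ⟨g, hg, -⟩ := TopCat.Sheaf.existsUnique_gluing' ⟨M.presheaf, M.isSheaf⟩ W V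
    (fun i => homOfLE (hW i)) (fun x hx => Opens.mem_iSup.2 ⟨⟨x, hx⟩, hxW ⟨x, hx⟩⟩) m
    (fun i j => hcompat i j)
  refine ⟨g, TopCat.Sheaf.eq_of_locally_eq' ⟨(CohB1.tensorMod M N).presheaf, (CohB1.tensorMod M N).isSheaf⟩
    W V (fun i => homOfLE (hW i)) (fun x hx => Opens.mem_iSup.2 ⟨⟨x, hx⟩, hxW ⟨x, hx⟩⟩) _ _ fun i => ?_⟩
  refine (tmul_res M N (hW i) g (res l h)).trans ?_
  simp only [res, res_res]
  exact (congrArg (fun t => SecTwist.tmul M N (W i) t _) (hg i)).trans (hm i)

/-- Powers of a frame. -/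
theorem tprod_isFrame {L : X.Modules} {U : X.Opens} {l : Γ(L, U)} (hl : IsFrame L U ![l]) :
    ∀ (q : ℕ), IsFrame (CohB1.tensorPow L q) U ![KoszTw.tprod L q U (fun _ => l)]
  | 0 => by
    intro V h
    have h1 : ∀ a : Fin 1 → Γ(X, V),
        comb (Coh.structureModule X) ![KoszTw.tprod L 0 U (fun _ => l)] h a = a 0 := by
      intro a
      rw [comb, Fin.sum_univ_one]
      show (a 0 : Γ(X, V)) * X.presheaf.map (homOfLE h).op (1 : Γ(X, U)) = a 0
      rw [map_one, mul_one]
    exact ⟨fun a b e => funext fun i => by rw [Fin.eq_zero i]; exact (h1 a).symm.trans (e.trans (h1 b)),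
      fun c => ⟨fun _ => c, h1 _⟩⟩
  | q + 1 => by
    intro V h
    have hq := smul_frame_bijective (tprod_isFrame hl q) h
    have hb := (tmul_bijective hl (CohB1.tensorPow L q) h).comp hq
    have e : comb (CohB1.tensorPow L (q + 1)) ![KoszTw.tprod L (q + 1) U (fun _ => l)] h =
        ((fun m => SecTwist.tmul (CohB1.tensorPow L q) L V m (res l h)) ∘
          fun r : Γ(X, V) => r • res (KoszTw.tprod L q U (fun _ => l)) h) ∘ Equiv.funUnique (Fin 1) Γ(X, V) := by
      funext a
      rw [comb, Fin.sum_univ_one]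
      show a 0 • (CohB1.tensorMod (CohB1.tensorPow L q) L).presheaf.map (homOfLE h).op
          (SecTwist.tmul _ L U (KoszTw.tprod L q U fun _ => l) l) =
        SecTwist.tmul (CohB1.tensorPow L q) L V (a 0 • res (KoszTw.tprod L q U fun _ => l) h) (res l h)
      rw [tmul_res]
      exact (((SecTwist.toTensor (CohB1.tensorPow L q) L).app (op V)).hom.map_smul (a 0)
          (ofTV _ _ V (res (KoszTw.tprod L q U fun _ => l) h ⊗ₜ[Γ(X, V)] res l h))).symm.trans
        (congrArg (fun z => ((SecTwist.toTensor (CohB1.tensorPow L q) L).app (op V)).hom (ofTV _ _ V z))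
          (TensorProduct.smul_tmul' (a 0) (res (KoszTw.tprod L q U fun _ => l) h) (res l h)))
    rw [e]
    exact hb.comp (Equiv.bijective _)

end Groth.Agent.KoszTwLib
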