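import Groth.Agent.KoszTwLib.Tensor
import Mathlib.LinearAlgebra.ExteriorPower.Basis
import Mathlib.CategoryTheory.Abelian.Basic

/-!
# Koszul complexes twisted by a line bundle, computed in frames
-/

set_option autoImplicit false
set_option backward.isDefEq.respectTransparency false
set_option backward.isDefEq.respectTransparency.types false
set_option linter.style.haveILetI false

universe u

open CategoryTheory CategoryTheory.Limits AlgebraicGeometry TopologicalSpace Opposite TensorProduct exteriorPower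
open Groth.Agent.LFFrame

noncomputable section

namespace Groth.Agent.KoszTwLib

variable {X : Scheme.{u}}

/-- A morphism on sections, linearly. -/
def appLin {M N : X.Modules} (φ : M ⟶ N) (V : X.Opens) : Γ(M, V) →ₗ[Γ(X, V)] Γ(N, V) where
  toFun := φ.app V
  map_add' := map_add _
  map_smul' r m := Scheme.Modules.Hom.app_smul φ r m

/-- Pure tensors, linearly in the first variable. -/
def tmulLin (M N : X.Modules) (V : X.Opens) (n : Γ(N, V)) :
    Γ(M, V) →ₗ[Γ(X, V)] Γ(CohB1.tensorMod M N, V) where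
  toFun m := SecTwist.tmul M N V m n
  map_add' m m' := (congrArg (fun z => toT M N V (ofTV M N V z)) (TensorProduct.add_tmul m m' n)).trans
    (map_add (toT M N V) (ofTV M N V (m ⊗ₜ[Γ(X, V)] n)) (ofTV M N V (m' ⊗ₜ[Γ(X, V)] n)))
  map_smul' r m :=
    (congrArg (fun z => ((SecTwist.toTensor M N).app (op V)).hom (ofTV M N V z))
      (TensorProduct.smul_tmul' r m n).symm).trans
      (((SecTwist.toTensor M N).app (op V)).hom.map_smul r (ofTV M N V (m ⊗ₜ[Γ(X, V)] n)))

theorem tmul_smul_right (M N : X.Modules) (V : X.Opens) (r : Γ(X, V)) (m : Γ(M, V)) (n : Γ(N, V)) :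
    (SecTwist.tmul M N V m (r • n) : Γ(CohB1.tensorMod M N, V)) = tmulLin M N V n (r • m) :=
  congrArg (fun z => ((SecTwist.toTensor M N).app (op V)).hom (ofTV M N V z))
    ((TensorProduct.smul_tmul r m n).symm : (m ⊗ₜ[Γ(X, V)] (r • n) : TV M N V) = _)

theorem res_rfl (M : X.Modules) {V : X.Opens} (m : Γ(M, V)) : M.presheaf.map (homOfLE (le_refl V)).op m = m := by
  rw [show (homOfLE (le_refl V)).op = 𝟙 (op V) from rfl, M.presheaf.map_id]
  rfl

theorem isFrame_res {M : X.Modules} {U V : X.Opens} {n : ℕ} {e : Fin n → Γ(M, U)} (he : IsFrame M U e)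
    (h : V ≤ U) : IsFrame M V (fun i => M.presheaf.map (homOfLE h).op (e i)) := by
  intro W hW
  have : comb M (fun i => M.presheaf.map (homOfLE h).op (e i)) hW = comb M e (hW.trans h) := by
    funext a
    simp [comb, res_res]
  rw [this]
  exact he W _

theorem isFrame_res_one {M : X.Modules} {U V : X.Opens} {l : Γ(M, U)} (hl : IsFrame M U ![l])
    (h : V ≤ U) : IsFrame M V ![M.presheaf.map (homOfLE h).op l] := by
  have : (![M.presheaf.map (homOfLE h).op l]) = fun i => M.presheaf.map (homOfLE h).op (![l] i) := by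
    funext i; fin_cases i; rfl
  rw [this]
  exact isFrame_res hl h

theorem free_of_isFrame {M : X.Modules} {V : X.Opens} {n : ℕ} {e : Fin n → Γ(M, V)} (he : IsFrame M V e) :
    Module.Free Γ(X, V) Γ(M, V) := by
  let c : (Fin n → Γ(X, V)) →ₗ[Γ(X, V)] Γ(M, V) := Fintype.linearCombination Γ(X, V) e
  have hc : Function.Bijective c := by
    have : (c : (Fin n → Γ(X, V)) → Γ(M, V)) = comb M e le_rfl := by
      funext a
      simp [c, Fintype.linearCombination_apply, comb, res_rfl]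
    rw [this]
    exact he V le_rfl
  exact Module.Free.of_equiv (LinearEquiv.ofBijective c hc)

theorem tmulLin_bijective {M N : X.Modules} {V : X.Opens} {n : Γ(N, V)} (hn : IsFrame N V ![n]) :
    Function.Bijective (tmulLin M N V n) := by
  have h := tmul_bijective hn M (le_refl V)
  have e : (fun m : Γ(M, V) => (SecTwist.tmul M N V m (res n (le_refl V)) : Γ(CohB1.tensorMod M N, V))) =
      tmulLin M N V n := by
    funext m
    rw [res, res_rfl]
    rfl
  rwa [e] at h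

section Ring

variable {R : Type*} [CommRing R] {M M' : Type*} [AddCommGroup M] [Module R M] [AddCommGroup M'] [Module R M']

theorem map_dGen (φ : M →ₗ[R] M') (τ : M' →ₗ[R] R) (p : ℕ) (f : Fin (p + 1) → M) :
    exteriorPower.map p φ (KoszSh.dGen (τ.comp φ) p f) = KoszSh.dGen τ p (φ ∘ f) := by
  simp only [KoszSh.dGen, map_sum, map_smul, map_apply_ιMulti, LinearMap.comp_apply, Function.comp_def]

theorem dGen_smul (a : R) (τ : M →ₗ[R] R) (p : ℕ) (f : Fin (p + 1) → M) :
    KoszSh.dGen (a • τ) p f = a • KoszSh.dGen τ p f := by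
  simp only [KoszSh.dGen, Finset.smul_sum, smul_smul, LinearMap.smul_apply, smul_eq_mul]
  refine Finset.sum_congr rfl fun i _ => ?_
  congr 1
  ring

theorem map_bijective (φ : M ≃ₗ[R] M') (p : ℕ) : Function.Bijective (exteriorPower.map p φ.toLinearMap) :=
  ⟨map_injective φ.symm.toLinearMap (LinearMap.ext fun m => φ.symm_apply_apply m),
    map_surjective φ.surjective⟩

theorem smul_eq_zero_of_free [Module.Free R M] {a : R} (ha : ∀ r : R, r * a = 0 → r = 0) {m : M}
    (hm : a • m = 0) : m = 0 := by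
  refine (Module.Free.chooseBasis R M).ext_elem fun i => ?_
  have := congrArg (fun x => (Module.Free.chooseBasis R M).repr x i) hm
  simp only [map_smul, Finsupp.smul_apply, smul_eq_mul, map_zero, Finsupp.zero_apply] at this
  rw [map_zero, Finsupp.zero_apply]
  exact ha _ ((mul_comm _ _).trans this)

end Ring

variable {F L : X.Modules} {s : F ⟶ Coh.structureModule X} {lam : Coh.structureModule X ⟶ L}
  {t : CohB1.tensorMod F L ⟶ Coh.structureModule X}
  (C : KoszSh.Cx F s) (D : KoszSh.Cx (CohB1.tensorMod F L) t) (V : X.affineOpens)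

variable (l : Γ(L, V.1))

/-- The twisted cosection read on `F`. -/
def tau : Γ(F, V.1) →ₗ[Γ(X, V.1)] Γ(X, V.1) := (KoszSh.secForm t V.1).comp (tmulLin F L V.1 l)

theorem exists_coeff (hl : IsFrame L V.1 ![l]) :
    ∃ a : Γ(X, V.1), appLin lam V.1 (1 : Γ(X, V.1)) = a • l := by
  obtain ⟨a, ha⟩ := (smul_frame_bijective hl (le_refl V.1)).2 (appLin lam V.1 (1 : Γ(X, V.1)))
  exact ⟨a, ha.symm.trans (congrArg (a • ·) (res_rfl L l))⟩

theorem lam_app (a : Γ(X, V.1)) (ha : appLin lam V.1 (1 : Γ(X, V.1)) = a • l) (r : Γ(X, V.1)) :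
    appLin lam V.1 r = (r * a) • l := by
  rw [mul_smul, ← ha, ← map_smul]
  exact congrArg (appLin lam V.1) (mul_one r).symm

theorem secForm_eq (htri : KoszTw.TwistTriangle s lam t) (hl : IsFrame L V.1 ![l]) (a : Γ(X, V.1))
    (ha : appLin lam V.1 (1 : Γ(X, V.1)) = a • l) : KoszSh.secForm s V.1 = a • tau (t := t) V l := by
  refine LinearMap.ext fun f => ?_
  have h1 : appLin lam V.1 (tau (t := t) V l f) = (KoszSh.secForm s V.1 f) • l := htri V.1 f l
  rw [lam_app V l a ha] at h1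
  refine ((smul_frame_bijective hl (le_refl V.1)).1 ?_).symm
  show ((a • tau (t := t) V l) f) • res l le_rfl = (KoszSh.secForm s V.1 f) • res l le_rfl
  rw [res, res_rfl, ← h1, LinearMap.smul_apply, smul_eq_mul, mul_comm]

/-- `Λ^p Γ(F) → Γ(D_p)`, `f₁ ∧ ⋯ ↦ (f₁ ⊗ l) ∧ ⋯`. -/
def phi (p : ℕ) : ↥(⋀[Γ(X, V.1)]^p Γ(F, V.1)) →ₗ[Γ(X, V.1)] Γ(D.K.X p, V.1) :=
  (D.loc p V).symm.toLinearMap.comp (exteriorPower.map p (tmulLin F L V.1 l))

theorem phi_bijective (hl : IsFrame L V.1 ![l]) (p : ℕ) : Function.Bijective (phi D V l p) :=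
  (D.loc p V).symm.bijective.comp (map_bijective (LinearEquiv.ofBijective _ (tmulLin_bijective hl)) p)

theorem phi_ιMulti (p : ℕ) (f : Fin p → Γ(F, V.1)) :
    phi D V l p (ιMulti _ p f) = (D.loc p V).symm (ιMulti _ p (fun i => SecTwist.tmul F L V.1 (f i) l)) :=
  congrArg (D.loc p V).symm (map_apply_ιMulti _ f)

/-- The differential of `D` in the frame. -/
theorem d_phi (q : ℕ) (f : Fin (q + 1) → Γ(F, V.1)) :
    appLin (D.K.d (q + 1) q) V.1 (phi D V l (q + 1) (ιMulti _ (q + 1) f)) =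
      phi D V l q (KoszSh.dGen (tau (t := t) V l) q f) := by
  rw [phi_ιMulti]
  refine (D.rule q V _).trans (congrArg (D.loc q V).symm ?_)
  exact (map_dGen (tmulLin F L V.1 l) (KoszSh.secForm t V.1) q f).symm

/-- `Λ^p Γ(F) → Γ(C_p ⊗ N)`, `ω ↦ ω ⊗ n`. -/
def psi (p : ℕ) (N : X.Modules) (n : Γ(N, V.1)) :
    ↥(⋀[Γ(X, V.1)]^p Γ(F, V.1)) →ₗ[Γ(X, V.1)] Γ(CohB1.tensorMod (C.K.X p) N, V.1) :=
  (tmulLin (C.K.X p) N V.1 n).comp (C.loc p V).symm.toLinearMap

theorem psi_bijective (p : ℕ) {N : X.Modules} {n : Γ(N, V.1)} (hn : IsFrame N V.1 ![n]) :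
    Function.Bijective (psi C V p N n) :=
  (tmulLin_bijective hn).comp (C.loc p V).symm.bijective

/-- `θ` in the frame. -/
theorem theta_phi (p : ℕ) (θ : KoszTw.CxDecData C D p) (w : ↥(⋀[Γ(X, V.1)]^p Γ(F, V.1))) :
    appLin θ.iso.hom V.1 (phi D V l p w) =
      psi C V p (CohB1.tensorPow L p) (KoszTw.tprod L p V.1 (fun _ => l)) w := by
  have h : (appLin θ.iso.hom V.1).comp (phi D V l p) =
      psi C V p (CohB1.tensorPow L p) (KoszTw.tprod L p V.1 (fun _ => l)) := by
    refine exteriorPower.linearMap_ext ?_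
    ext f
    show appLin θ.iso.hom V.1 (phi D V l p (ιMulti _ p f)) = _
    rw [phi_ιMulti]
    exact θ.rule V f (fun _ => l)
  exact LinearMap.congr_fun h w

/-- The differential of `C`, tensored with `N`, in the frame. -/
theorem d_psi (q : ℕ) (N : X.Modules) (n : Γ(N, V.1)) (f : Fin (q + 1) → Γ(F, V.1)) :
    appLin (KoszTw.tensorMap (C.K.d (q + 1) q) (𝟙 N)) V.1 (psi C V (q + 1) N n (ιMulti _ (q + 1) f)) =
      psi C V q N n (KoszSh.dGen (KoszSh.secForm s V.1) q f) :=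
  (KoszTw.tensorMap_tmul (C.K.d (q + 1) q) (𝟙 N) V.1 _ n).trans
    (congrArg (fun z => SecTwist.tmul (C.K.X q) N V.1 z n) (C.rule q V f))

/-- The differential, untwisted, as a map `Λ^{q+1} Γ(F) → Λ^q Γ(F)`. -/
theorem exists_contraction (hl : IsFrame L V.1 ![l]) (q : ℕ) :
    ∃ G : ↥(⋀[Γ(X, V.1)]^(q + 1) Γ(F, V.1)) →ₗ[Γ(X, V.1)] ↥(⋀[Γ(X, V.1)]^q Γ(F, V.1)),
      (∀ f, G (ιMulti _ (q + 1) f) = KoszSh.dGen (tau (t := t) V l) q f) ∧
      ∀ w, appLin (D.K.d (q + 1) q) V.1 (phi D V l (q + 1) w) = phi D V l q (G w) := by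
  let e := LinearEquiv.ofBijective _ (phi_bijective D V l hl q)
  refine ⟨e.symm.toLinearMap.comp ((appLin (D.K.d (q + 1) q) V.1).comp (phi D V l (q + 1))), fun f => ?_,
    fun w => ?_⟩
  · show e.symm _ = _
    rw [LinearEquiv.symm_apply_eq]
    exact d_phi D V l q f
  · exact (e.apply_symm_apply _).symm

variable {q : ℕ}

/-- The kernel comparison in a frame. -/
theorem theta_d_eq_zero_iff [Mono lam] (htri : KoszTw.TwistTriangle s lam t) (θ : KoszTw.CxDecData C D (q + 1))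
    (hl : IsFrame L V.1 ![l]) {n : ℕ} {e : Fin n → Γ(F, V.1)} (he : IsFrame F V.1 e)
    (hinj : Function.Injective (appLin lam V.1)) (m : Γ(D.K.X (q + 1), V.1)) :
    appLin (θ.iso.hom ≫ KoszTw.tensorMap (C.K.d (q + 1) q) (𝟙 (CohB1.tensorPow L (q + 1)))) V.1 m = 0 ↔
      appLin (D.K.d (q + 1) q) V.1 m = 0 := by
  obtain ⟨a, ha⟩ := exists_coeff (lam := lam) V l hl
  obtain ⟨G, hG, hδ⟩ := exists_contraction (t := t) D V l hl q
  set L1 := KoszTw.tprod L (q + 1) V.1 (fun _ => l)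
  have hL1 : IsFrame (CohB1.tensorPow L (q + 1)) V.1 ![L1] := tprod_isFrame hl (q + 1)
  obtain ⟨w, rfl⟩ := (phi_bijective D V l hl (q + 1)).2 m
  have hA : (appLin (KoszTw.tensorMap (C.K.d (q + 1) q) (𝟙 (CohB1.tensorPow L (q + 1)))) V.1).comp
      (psi C V (q + 1) _ L1) = a • (psi C V q _ L1).comp G := by
    refine exteriorPower.linearMap_ext ?_
    ext f
    simp only [LinearMap.compAlternatingMap_apply, LinearMap.comp_apply, LinearMap.smul_apply]
    rw [d_psi, secForm_eq V l htri hl a ha, dGen_smul, map_smul, hG]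
  have h1 : appLin (θ.iso.hom ≫ KoszTw.tensorMap (C.K.d (q + 1) q) (𝟙 (CohB1.tensorPow L (q + 1)))) V.1
      (phi D V l (q + 1) w) = a • psi C V q _ L1 (G w) :=
    (congrArg (appLin (KoszTw.tensorMap (C.K.d (q + 1) q) (𝟙 (CohB1.tensorPow L (q + 1)))) V.1)
      (theta_phi C D V l (q + 1) θ w)).trans (LinearMap.congr_fun hA w)
  rw [h1, hδ, ← map_smul, map_eq_zero_iff _ (psi_bijective C V q hL1).1,
    map_eq_zero_iff _ (phi_bijective D V l hl q).1]
  refine ⟨fun h => ?_, fun h => by rw [h, smul_zero]⟩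
  haveI := free_of_isFrame he
  refine smul_eq_zero_of_free (R := Γ(X, V.1)) (fun (r : Γ(X, V.1)) hr => hinj (a₁ := r) (a₂ := (0 : Γ(X, V.1))) ?_) h
  rw [lam_app V l a ha, hr, zero_smul, map_zero]

/-- The image comparison in a frame. -/
theorem image_eq (htri : KoszTw.TwistTriangle s lam t) (θ : KoszTw.CxDecData C D q) (hl : IsFrame L V.1 ![l])
    (w : ↥(⋀[Γ(X, V.1)]^(q + 1) Γ(F, V.1))) :
    appLin (KoszTw.tensorMap (KoszTw.tensorMap (C.K.d (q + 1) q) (𝟙 (CohB1.tensorPow L q))) (𝟙 L)) V.1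
        (tmulLin _ L V.1 l (psi C V (q + 1) _ (KoszTw.tprod L q V.1 (fun _ => l)) w)) =
      appLin ((SecTwist.unitorR (D.K.X (q + 1))).inv ≫ KoszTw.tensorMap (D.K.d (q + 1) q) lam ≫
        KoszTw.tensorMap θ.iso.hom (𝟙 L)) V.1 (phi D V l (q + 1) w) := by
  obtain ⟨a, ha⟩ := exists_coeff (lam := lam) V l hl
  obtain ⟨G, hG, hδ⟩ := exists_contraction (t := t) D V l hl q
  set Lq := KoszTw.tprod L q V.1 (fun _ => l)
  have hA : (appLin (KoszTw.tensorMap (C.K.d (q + 1) q) (𝟙 (CohB1.tensorPow L q))) V.1).comp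
      (psi C V (q + 1) _ Lq) = a • (psi C V q _ Lq).comp G := by
    refine exteriorPower.linearMap_ext ?_
    ext f
    simp only [LinearMap.compAlternatingMap_apply, LinearMap.comp_apply, LinearMap.smul_apply]
    rw [d_psi, secForm_eq V l htri hl a ha, dGen_smul, map_smul, hG]
  set m := phi D V l (q + 1) w
  have hu : appLin (SecTwist.unitorR (D.K.X (q + 1))).inv V.1 m =
      tmulLin (D.K.X (q + 1)) (Coh.structureModule X) V.1 (1 : Γ(X, V.1)) m := by
    have h1 : appLin (SecTwist.unitorR (D.K.X (q + 1))).hom V.1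
        (tmulLin (D.K.X (q + 1)) (Coh.structureModule X) V.1 (1 : Γ(X, V.1)) m) = m :=
      (SecTwist.unitorR_tmul (D.K.X (q + 1)) V.1 m (1 : Γ(X, V.1))).trans (one_smul _ _)
    refine (congrArg (appLin (SecTwist.unitorR (D.K.X (q + 1))).inv V.1) h1.symm).trans ?_
    show ((SecTwist.unitorR (D.K.X (q + 1))).hom ≫ (SecTwist.unitorR (D.K.X (q + 1))).inv).app V.1 _ = _
    rw [Iso.hom_inv_id]
    rfl
  have h2 : appLin (KoszTw.tensorMap (D.K.d (q + 1) q) lam) V.1
      (tmulLin (D.K.X (q + 1)) (Coh.structureModule X) V.1 (1 : Γ(X, V.1)) m) =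
      tmulLin (D.K.X q) L V.1 l (a • phi D V l q (G w)) := by
    rw [← hδ, ← tmul_smul_right]
    exact (KoszTw.tensorMap_tmul (D.K.d (q + 1) q) lam V.1 m (1 : Γ(X, V.1))).trans
      (congrArg (fun z => SecTwist.tmul (D.K.X q) L V.1 _ z) ha)
  have h3 : appLin (KoszTw.tensorMap θ.iso.hom (𝟙 L)) V.1 (tmulLin (D.K.X q) L V.1 l (a • phi D V l q (G w))) =
      tmulLin _ L V.1 l (a • psi C V q _ Lq (G w)) :=
    (KoszTw.tensorMap_tmul θ.iso.hom (𝟙 L) V.1 (a • phi D V l q (G w)) l).trans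
      (congrArg (fun z => SecTwist.tmul _ L V.1 z l)
        ((map_smul (appLin θ.iso.hom V.1) a _).trans (congrArg (a • ·) (theta_phi C D V l q θ (G w)))))
  refine ((KoszTw.tensorMap_tmul _ (𝟙 L) V.1 _ l).trans ?_).trans
    (((congrArg (fun z => appLin (KoszTw.tensorMap (D.K.d (q + 1) q) lam ≫ KoszTw.tensorMap θ.iso.hom (𝟙 L)) V.1 z)
      hu).trans ((congrArg (appLin (KoszTw.tensorMap θ.iso.hom (𝟙 L)) V.1) h2).trans h3)).symm)
  exact congrArg (fun z => SecTwist.tmul _ L V.1 z l) (LinearMap.congr_fun hA w)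

/-! ### Globalisation -/

theorem eq_zero_of_small {P Q : X.Modules} (φ : P ⟶ Q)
    (h : ∀ x : X, ∃ U : X.Opens, x ∈ U ∧ ∀ V : X.affineOpens, V.1 ≤ U → ∀ m : Γ(P, V.1), appLin φ V.1 m = 0) :
    φ = 0 := by
  refine Scheme.Modules.hom_ext _ _ fun W => ?_
  refine AddCommGrpCat.hom_ext (AddMonoidHom.ext fun m => ?_)
  refine (eq_zero_of_locally Q W _ fun x hx => ?_).trans rfl
  obtain ⟨U, hxU, hU⟩ := h x
  obtain ⟨_, ⟨(V : X.Opens), hV, rfl⟩, hxV, hVle⟩ := X.isBasis_affineOpens.exists_subset_of_mem_open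
    (show x ∈ U ⊓ W from ⟨hxU, hx⟩) (U ⊓ W).2
  refine ⟨V, fun y hy => (hVle hy).2, hxV, ?_⟩
  refine Eq.trans ?_ (hU ⟨V, hV⟩ (fun y hy => (hVle hy).1) (P.presheaf.map (homOfLE fun y hy => (hVle hy).2).op m))
  exact (ConcreteCategory.congr_hom (φ.mapPresheaf.naturality (homOfLE fun y hy => (hVle hy).2).op) m).symm

theorem imageSubobject_le_of_comp_cokernel {P Q R : X.Modules} (f : P ⟶ R) (g : Q ⟶ R)
    (h : f ≫ cokernel.π g = 0) : imageSubobject f ≤ imageSubobject g :=
  imageSubobject_le f (kernel.lift _ f h ≫ (Abelian.imageIsoImage g).hom ≫ (imageSubobjectIso g).inv) (by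
    simp)

theorem mono_appLin_injective {P Q : X.Modules} (φ : P ⟶ Q) [Mono φ] (V : X.Opens) :
    Function.Injective (appLin φ V) := by
  have : Mono φ.mapPresheaf := inferInstanceAs (Mono ((Scheme.Modules.toPresheaf X).map φ))
  have h := (NatTrans.mono_iff_mono_app _).1 this (op V)
  exact (AddCommGrpCat.mono_iff_injective _).1 h

theorem exists_line_frame {M : X.Modules} (hM : PicF.IsInvertible M) (x : X) :
    ∃ (U : X.Opens) (l : Γ(M, U)), x ∈ U ∧ IsFrame M U ![l] := by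
  obtain ⟨U, hx, ⟨φ⟩⟩ := hM x
  obtain ⟨e, he⟩ := exists_isFrame_of_split (M := M) (fun _ : Fin 1 => φ.inv) (fun _ => φ.hom)
    (fun i j => by simp [Subsingleton.elim i j]) (by simp)
  refine ⟨U, e 0, hx, ?_⟩
  have : ![e 0] = e := by funext i; fin_cases i; rfl
  rwa [this]

end Groth.Agent.KoszTwLib
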